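import Groth.Agent.RedSub.K979.ClosedSet
import Groth.Agent.RedSub.H636.ConnFib
import Groth.Agent.Sga3C.GrpIrr
import Groth.Agent.Sga3B.Pts

/-!
# Smoothness and fibres of the groups directly spanned by a closed set of roots
-/

set_option autoImplicit false
universe u

open CategoryTheory MonoidalCategory CartesianMonoidalCategory MonObj GrpObj AlgebraicGeometry Limits

namespace K979.ClosedSet

open Groth.Agent Groth.Agent.RedSub.H633.PowPts Groth.Agent.RedSub
open Sga3B.Parab Sga3B.BorRP478

variable {S : Scheme.{u}} {G : Over S} [GrpObj G] {D : Red.SplitRed G}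

lemma smooth_of_iso_pow {U : Over S} {m : ℕ} (ψ : _root_.RedSub.pow (Red.Ga S) m ≅ U) : Smooth U.hom := by
  have h1 : Smooth (_root_.RedSub.pow (Red.Ga S) m).hom :=
    K195.PartCell.prop_pow @Smooth inferInstance H635.GaSm.smooth_ga m
  have h2 : IsIso ψ.inv.left := (Over.forget S).map_isIso ψ.inv
  rw [← Over.w ψ.inv]
  infer_instance

lemma irr_ga : GeometricallyIrreducible (Red.Ga S).hom := by
  have h1 : Smooth (Red.Ga S).hom := Groth.Agent.RedSub.H635.GaSm.smooth_ga
  have h2 : GrpObj (Red.Ga S) := inferInstance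
  have h3 : GrpObj (Over.mk (Red.Ga S).hom) := h2
  exact Groth.Agent.Sga3C.GrpIrr.geometricallyIrreducible_of_connected_fibres (Red.Ga S).hom
    Groth.Agent.RedSub.H636.ConnFib.hasConnectedFibres_Ga

lemma conn_of_irr {X Y : Scheme.{u}} {f : X ⟶ Y} (h : GeometricallyIrreducible f) : GeometricallyConnected f :=
  ⟨fun K _ y Z fst snd hp => by
    have := h.geometrically_irreducibleSpace y fst snd hp
    infer_instance⟩

lemma conn_of_isIso {X Y : Scheme.{u}} (f : X ⟶ Y) [IsIso f] : GeometricallyConnected f :=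
  ⟨fun K _ y Z fst snd hp => by
    have : IsIso snd := hp.isIso_snd_of_isIso
    exact (inv snd).surjective.connectedSpace (inv snd).continuous⟩

lemma conn_fst {X Y Z : Scheme.{u}} (f : X ⟶ Z) (g : Y ⟶ Z) (h : GeometricallyConnected g) :
    GeometricallyConnected (pullback.fst f g) := inferInstance

lemma conn_tensor {X Y Z : Scheme.{u}} (f : X ⟶ Z) (g : Y ⟶ Z) (h : GeometricallyConnected f)
    (h' : GeometricallyConnected g) [UniversallyOpen f] [UniversallyOpen g] :
    GeometricallyConnected (pullback.fst f g ≫ f) :=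
  have := conn_fst f g h'
  GeometricallyConnected.comp _ _

lemma conn_pow : ∀ m : ℕ, GeometricallyConnected (_root_.RedSub.pow (Red.Ga S) m).hom
  | 0 => conn_of_isIso (𝟙 S)
  | m + 1 => by
    have h1 := conn_pow m
    have h2 : Smooth (_root_.RedSub.pow (Red.Ga S) m).hom :=
      K195.PartCell.prop_pow @Smooth inferInstance H635.GaSm.smooth_ga m
    have h3 : (_root_.RedSub.pow (Red.Ga S) (m + 1)).hom =
        pullback.fst (Red.Ga S).hom (_root_.RedSub.pow (Red.Ga S) m).hom ≫ (Red.Ga S).hom :=
      (Over.w (fst (Red.Ga S) (_root_.RedSub.pow (Red.Ga S) m))).symm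
    have h4 : Smooth (Red.Ga S).hom := H635.GaSm.smooth_ga
    have h5 : GeometricallyConnected (Red.Ga S).hom := conn_of_irr irr_ga
    exact h3 ▸ conn_tensor _ _ h5 h1

lemma conn_of_iso_pow {U : Over S} {m : ℕ} (ψ : _root_.RedSub.pow (Red.Ga S) m ≅ U) : GeometricallyConnected U.hom := by
  have h1 := conn_pow (S := S) m
  have h0 : Smooth (_root_.RedSub.pow (Red.Ga S) m).hom :=
    K195.PartCell.prop_pow @Smooth inferInstance H635.GaSm.smooth_ga m
  have h2 : IsIso ψ.inv.left := (Over.forget S).map_isIso ψ.inv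
  have h3 : GeometricallyConnected ψ.inv.left := conn_of_isIso _
  rw [← Over.w ψ.inv]
  exact GeometricallyConnected.comp _ _

lemma connected_geomFibre {U : Over S} (h : GeometricallyConnected U.hom) (s : S) :
    ConnectedSpace (Red.geomFibre s U).left := by
  have h1 : GeometricallyConnected (Red.geomFibre s U).hom :=
    inferInstanceAs (GeometricallyConnected (pullback.snd U.hom (Red.geomPt s)))
  exact GeometricallyConnected.connectedSpace_of_subsingleton (Red.geomFibre s U).hom

theorem hasNoSubtorus {mu : D.M →+ ℤ} {Ψ : Set D.idx} (hmu : ∀ a ∈ Ψ, 0 < mu (D.P.root a)) {U : Over S} [GrpObj U]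
    {v : U ⟶ G} [IsMonHom v] [Mono v] (h : v ∈ gen D Ψ U) (s : S) :
    Red.HasNoSubtorus (AlgebraicClosure (S.residueField s)) (Red.geomFibre s U) := by
  have hred := D.reductive
  have h1 : IsAffineHom G.hom := hred.1
  have h2 : IsMonHom (coch D mu) := inferInstance
  obtain ⟨P, _, p, hp, -⟩ := DynExist998.exists_isDynU (coch D mu)
  have h3 := hp.isMonHom
  have h4 := hp.mono
  obtain ⟨w, hw⟩ := (hp.iff_ptU U v).2 (ptU_of_mem_gen hmu h)
  have h5 : IsMonHom (w ≫ p) := hw ▸ inferInstance
  have h6 : IsMonHom w := by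
    refine Sga3B.Pts.isMonHom_of_points _ fun X x y => ?_
    rw [← cancel_mono p, Category.assoc, MonObj.mul_comp, MonObj.mul_comp, Category.assoc, Category.assoc]
  have h7 : Mono w := mono_of_mono_fac hw
  have h8 := hp.bc (f := Red.geomPt s)
  have h10 : IsAffineHom (Red.bc (Red.geomPt s) G).hom :=
    inferInstanceAs (IsAffineHom (pullback.snd G.hom (Red.geomPt s)))
  have h11 : Smooth G.hom := hred.2.1
  have h12 : Smooth (Red.bc (Red.geomPt s) G).hom :=
    inferInstanceAs (Smooth (pullback.snd G.hom (Red.geomPt s)))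
  have h9 := DynGeom678.hasNoSubtorus_isDynU h8
  intro T' _ j _ _ hT'
  exact h9 T' (j ≫ (Over.pullback (Red.geomPt s)).map w) hT'

end K979.ClosedSet
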