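import Groth.Agent.RedSub.K979.ClosedSet
import Groth.Agent.Sga3B.Pts

/-!
# The filtration of the groups directly spanned by a closed set of roots
-/

set_option autoImplicit false
universe u

open CategoryTheory MonoidalCategory CartesianMonoidalCategory MonObj GrpObj AlgebraicGeometry Limits

namespace K979.ClosedSet

open Groth.Agent Groth.Agent.RedSub.H633.PowPts Groth.Agent.RedSub

variable {S : Scheme.{u}} {G : Over S} [GrpObj G] {D : Red.SplitRed G}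

/-- The roots in `Ψ` with `k ≤ λ`. -/
def lev (D : Red.SplitRed G) (Ψ : Set D.idx) (lam : Module.Dual ℤ D.M) (k : ℤ) : Set D.idx :=
  {a | a ∈ Ψ ∧ k ≤ lam (D.P.root a)}

section

variable {Ψ : Set D.idx} (hcl : ∀ a b c : D.idx, a ∈ Ψ → b ∈ Ψ → D.P.root a + D.P.root b = D.P.root c → c ∈ Ψ)
  {lam : Module.Dual ℤ D.M} (hpos : ∀ a ∈ Ψ, 0 < lam (D.P.root a))

include hcl hpos in
lemma combs_subset_lev {k l : ℤ} (hk : 0 ≤ k) (hl : 0 ≤ l) {a b : D.idx} (ha : a ∈ lev D Ψ lam k)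
    (hb : b ∈ lev D Ψ lam l) : combs D a b ⊆ lev D Ψ lam (k + l) := by
  intro c hc
  refine ⟨combs_subset hcl ha.1 hb.1 hc, ?_⟩
  obtain ⟨p, q, hp, hq, h⟩ := hc
  have h1 : lam (D.P.root c) = p * lam (D.P.root a) + q * lam (D.P.root b) := by
    rw [h, map_add, map_zsmul, map_zsmul, smul_eq_mul, smul_eq_mul]
  rw [h1]
  have h2 := hpos a ha.1
  have h3 := hpos b hb.1
  have h4 := ha.2
  have h5 := hb.2
  have hp' : (1 : ℤ) ≤ p := by exact_mod_cast hp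
  have hq' : (1 : ℤ) ≤ q := by exact_mod_cast hq
  nlinarith

include hcl hpos in
lemma combs_subset_lev_succ {k : ℤ} (hk : 0 ≤ k) {a b : D.idx} (ha : a ∈ Ψ)
    (hb : b ∈ lev D Ψ lam k) : combs D a b ⊆ lev D Ψ lam (k + 1) := by
  have h := combs_subset_lev hcl hpos (k := 1) (l := k) (by lia) hk (a := a) (b := b) ⟨ha, hpos a ha⟩ hb
  rwa [add_comm] at h

include hcl hpos in
lemma lev_closed (k : ℤ) : ∀ a b c : D.idx, a ∈ lev D Ψ lam k → b ∈ lev D Ψ lam k →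
    D.P.root a + D.P.root b = D.P.root c → c ∈ lev D Ψ lam k := by
  intro a b c ha hb h
  refine ⟨hcl a b c ha.1 hb.1 h, ?_⟩
  rw [← h, map_add]
  have h2 := hpos b hb.1
  have h4 := ha.2
  lia

lemma lev_subset (k : ℤ) : lev D Ψ lam k ⊆ Ψ := fun _ h => h.1

end

/-- Points of a group directly spanned by root groups. -/
theorem pts_iff (b : D.P.Base) {Ψ : Set D.idx} (hb : Ψ ⊆ _root_.RedSub.posRoots D.P b)
    (hcl : ∀ a b c : D.idx, a ∈ Ψ → b ∈ Ψ → D.P.root a + D.P.root b = D.P.root c → c ∈ Ψ)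
    {U : Over S} {v : U ⟶ G}
    (hU : ∀ {m : ℕ} (e : Fin m → D.idx), _root_.RedSub.Enumerates Ψ e →
      ∃ ψ : _root_.RedSub.pow (Red.Ga S) m ≅ U,
        ψ.hom ≫ v = _root_.RedSub.prodMap (Red.Ga S) m (fun k => D.u (e k))) {X : Over S} (g : X ⟶ G) :
    (∃ y : X ⟶ U, y ≫ v = g) ↔ g ∈ gen D Ψ X := by
  obtain ⟨m, e, he⟩ := H637.PosRoots.exists_enumerates Ψ
  obtain ⟨ψ, hψ⟩ := hU e he
  rw [← exists_lift_iff b hb hcl he.2 g, ← hψ]
  constructor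
  · rintro ⟨y, rfl⟩
    exact ⟨y ≫ ψ.inv, by simp⟩
  · rintro ⟨y, rfl⟩
    exact ⟨y ≫ ψ.hom, by simp⟩

/-- `gen Ψ₁` normalizes `gen Ψ₂` if all combinations of roots in `Ψ₁` and `Ψ₂` are in `Ψ₂`. -/
theorem conj_mem_of_combs (b : D.P.Base) {Ψ₁ Ψ₂ : Set D.idx} (h₁ : Ψ₁ ⊆ _root_.RedSub.posRoots D.P b)
    (h₂ : Ψ₂ ⊆ _root_.RedSub.posRoots D.P b) (h : ∀ α ∈ Ψ₁, ∀ β ∈ Ψ₂, combs D α β ⊆ Ψ₂) {X : Over S}
    {x y : X ⟶ G} (hx : x ∈ gen D Ψ₁ X) (hy : y ∈ gen D Ψ₂ X) : x * y * x⁻¹ ∈ gen D Ψ₂ X := by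
  have key : ∀ α ∈ Ψ₁, ∀ z ∈ ug D X α, ∀ y ∈ gen D Ψ₂ X, z * y * z⁻¹ ∈ gen D Ψ₂ X := by
    rintro α hα _ ⟨z, rfl⟩ y hy
    have h3 : gen D Ψ₂ X ≤ (gen D Ψ₂ X).comap (MulAut.conj (z ≫ D.u α)).toMonoidHom := by
      rw [gen, Subgroup.closure_le]
      rintro _ ⟨β, hβ, w, rfl⟩
      change (z ≫ D.u α) * (w ≫ D.u β) * (z ≫ D.u α)⁻¹ ∈ gen D Ψ₂ X
      have h4 := gen_mono (h α hα β hβ) X (conj_mem_gen b (h₁ hα) (h₂ hβ) z w)
      have h5 := mul_mem (mem_gen hβ w) h4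
      rwa [mul_inv_cancel_left] at h5
    exact h3 hy
  have h3 : gen D Ψ₁ X ≤ Subgroup.normalizer (gen D Ψ₂ X : Set (X ⟶ G)) := by
    rw [gen, Subgroup.closure_le]
    rintro z ⟨α, hα, hz⟩
    rw [SetLike.mem_coe, Subgroup.mem_normalizer_iff]
    intro y
    refine ⟨key α hα z hz y, fun hy => ?_⟩
    have h4 := key α hα z⁻¹ (inv_mem hz) _ hy
    have h5 : z⁻¹ * (z * y * z⁻¹) * z⁻¹⁻¹ = y := by group
    rwa [h5] at h4
  exact ((Subgroup.mem_normalizer_iff.1 (h3 hx)) y).1 hy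

/-- **The steps of the filtration.** -/
theorem main [Nonempty S] (b : D.P.Base) (Ψ : Set D.idx) (hb : Ψ ⊆ _root_.RedSub.posRoots D.P b)
    (hcl : ∀ a b c : D.idx, a ∈ Ψ → b ∈ Ψ → D.P.root a + D.P.root b = D.P.root c → c ∈ Ψ)
    (lam : Module.Dual ℤ D.M) (hpos : ∀ a ∈ Ψ, 0 < lam (D.P.root a))
    (n : ℕ) (hn : 1 ≤ n)
    {U₁ U₂ : Over S} [GrpObj U₁] [GrpObj U₂] (v₁ : U₁ ⟶ G) (v₂ : U₂ ⟶ G) [IsMonHom v₁] [IsMonHom v₂]
    (hv₁ : IsClosedImmersion v₁.left) (hv₂ : IsClosedImmersion v₂.left)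
    (hU₁ : ∀ {m : ℕ} (e : Fin m → D.idx),
      _root_.RedSub.Enumerates {a | a ∈ Ψ ∧ (n : ℤ) ≤ lam (D.P.root a)} e →
      ∃ ψ : _root_.RedSub.pow (Red.Ga S) m ≅ U₁,
        ψ.hom ≫ v₁ = _root_.RedSub.prodMap (Red.Ga S) m (fun k => D.u (e k)))
    (hU₂ : ∀ {m : ℕ} (e : Fin m → D.idx),
      _root_.RedSub.Enumerates {a | a ∈ Ψ ∧ (n : ℤ) + 1 ≤ lam (D.P.root a)} e →
      ∃ ψ : _root_.RedSub.pow (Red.Ga S) m ≅ U₂,
        ψ.hom ≫ v₂ = _root_.RedSub.prodMap (Red.Ga S) m (fun k => D.u (e k))) :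
    (∃ f : U₂ ⟶ U₁, f ≫ v₁ = v₂ ∧ IsMonHom f ∧ AlgGrp.IsNormalHom f) ∧
    (∀ (a b : D.idx), a ∈ Ψ → b ∈ Ψ → lam (D.P.root a) = n → lam (D.P.root b) = n →
      ∀ (X : Over S) (x y : X ⟶ Red.Ga S), ∃ w : X ⟶ U₂,
        (x ≫ D.u a) * (y ≫ D.u b) * (x ≫ D.u a)⁻¹ * (y ≫ D.u b)⁻¹ = w ≫ v₂) ∧
    ∀ {m : ℕ} (e : Fin m → D.idx), _root_.RedSub.Enumerates {a | a ∈ Ψ ∧ lam (D.P.root a) = n} e →
      ∃ ψ : _root_.RedSub.pow (Red.Ga S) m ⊗ U₂ ≅ U₁,
        ψ.hom ≫ v₁ = (fst _ _ ≫ _root_.RedSub.prodMap (Red.Ga S) m (fun k => D.u (e k))) * (snd _ _ ≫ v₂) := by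
  have hn0 : (0 : ℤ) ≤ n := by lia
  have hn1 : (0 : ℤ) ≤ (n : ℤ) + 1 := by lia
  have hb1 : lev D Ψ lam n ⊆ _root_.RedSub.posRoots D.P b := (lev_subset _).trans hb
  have hb2 : lev D Ψ lam (n + 1) ⊆ _root_.RedSub.posRoots D.P b := (lev_subset _).trans hb
  have pts1 : ∀ {X : Over S} (g : X ⟶ G), (∃ y : X ⟶ U₁, y ≫ v₁ = g) ↔ g ∈ gen D (lev D Ψ lam n) X :=
    fun g => pts_iff b hb1 (lev_closed hcl hpos _) hU₁ g
  have pts2 : ∀ {X : Over S} (g : X ⟶ G), (∃ y : X ⟶ U₂, y ≫ v₂ = g) ↔ g ∈ gen D (lev D Ψ lam (n + 1)) X :=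
    fun g => pts_iff b hb2 (lev_closed hcl hpos _) hU₂ g
  have hsub : lev D Ψ lam (n + 1) ⊆ lev D Ψ lam n := fun a ha => ⟨ha.1, by have := ha.2; lia⟩
  have hcombs : ∀ α ∈ lev D Ψ lam n, ∀ β ∈ lev D Ψ lam (n + 1), combs D α β ⊆ lev D Ψ lam (n + 1) := by
    intro α hα β hβ c hc
    have := combs_subset_lev_succ hcl hpos hn1 (a := α) hα.1 hβ hc
    exact ⟨this.1, by have := this.2; lia⟩
  have hmono : Mono v₁.left := inferInstance
  have hmono' : Mono v₁ := (Over.forget S).mono_of_mono_map hmono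
  have hmono2 : Mono v₂.left := inferInstance
  have hmono2' : Mono v₂ := (Over.forget S).mono_of_mono_map hmono2
  refine ⟨?_, ?_, ?_⟩
  · obtain ⟨f, hf⟩ := (pts1 v₂).2 (gen_mono hsub _ ((pts2 v₂).1 ⟨𝟙 _, Category.id_comp _⟩))
    have hfm : IsMonHom f := by
      refine Sga3B.Pts.isMonHom_of_points _ fun X x y => ?_
      rw [← cancel_mono v₁, Category.assoc, hf, MonObj.mul_comp, MonObj.mul_comp, Category.assoc, Category.assoc, hf]
    refine ⟨f, hf, hfm, fun X g y => ?_⟩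
    obtain ⟨w, hw⟩ := (pts2 _).2 (conj_mem_of_combs b hb1 hb2 hcombs ((pts1 (g ≫ v₁)).1 ⟨g, rfl⟩)
      ((pts2 (y ≫ v₂)).1 ⟨y, rfl⟩))
    refine ⟨w, ?_⟩
    rw [← cancel_mono v₁, Category.assoc, hf, hw, MonObj.mul_comp, MonObj.mul_comp, GrpObj.inv_comp, Category.assoc, hf]
  · intro α β hα hβ h1 h2 X x y
    have hα' : α ∈ lev D Ψ lam n := ⟨hα, h1.ge⟩
    have hβ' : β ∈ lev D Ψ lam n := ⟨hβ, h2.ge⟩
    have h3 := conj_mem_gen b (hb hα) (hb hβ) x y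
    have h4 := gen_mono (combs_subset_lev_succ hcl hpos hn0 hα hβ') X h3
    have h5 := conj_mem_of_combs b hb1 hb2 hcombs (mem_gen hβ' y) h4
    obtain ⟨w, hw⟩ := (pts2 _).2 h5
    refine ⟨w, ?_⟩
    rw [hw]
    group
  · intro m e he
    obtain ⟨p, e', he'⟩ := H637.PosRoots.exists_enumerates (lev D Ψ lam (n + 1))
    have happ : _root_.RedSub.Enumerates {a | a ∈ Ψ ∧ (n : ℤ) ≤ lam (D.P.root a)} (Fin.append e e') := by
      constructor
      · rw [Fin.append_injective_iff]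
        refine ⟨he.1, he'.1, fun i j hij => ?_⟩
        have h1 : e i ∈ {a | a ∈ Ψ ∧ lam (D.P.root a) = n} := he.2 ▸ ⟨i, rfl⟩
        have h2 : e' j ∈ lev D Ψ lam (n + 1) := he'.2 ▸ ⟨j, rfl⟩
        rw [hij] at h1
        have h3 := h1.2
        have h4 := h2.2
        lia
      · ext a
        constructor
        · rintro ⟨k, rfl⟩
          refine Fin.addCases (fun k => ?_) (fun k => ?_) k
          · rw [Fin.append_left]
            have h1 : e k ∈ {a | a ∈ Ψ ∧ lam (D.P.root a) = n} := he.2 ▸ ⟨k, rfl⟩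
            exact ⟨h1.1, h1.2.ge⟩
          · rw [Fin.append_right]
            have h2 : e' k ∈ lev D Ψ lam (n + 1) := he'.2 ▸ ⟨k, rfl⟩
            exact hsub h2
        · rintro ⟨h1, h2⟩
          rcases eq_or_lt_of_le h2 with h3 | h3
          · have h4 : a ∈ Set.range e := he.2.symm ▸ ⟨h1, h3.symm⟩
            obtain ⟨k, rfl⟩ := h4
            exact ⟨Fin.castAdd p k, Fin.append_left _ _ _⟩
          · have h4 : a ∈ Set.range e' := he'.2.symm ▸ ⟨h1, h3⟩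
            obtain ⟨k, rfl⟩ := h4
            exact ⟨Fin.natAdd m k, Fin.append_right _ _ _⟩
    obtain ⟨ψ₁, hψ₁⟩ := hU₁ _ happ
    obtain ⟨ψ₂, hψ₂⟩ := hU₂ _ he'
    let g' : _root_.RedSub.pow (Red.Ga S) m ⊗ U₂ ⟶ _root_.RedSub.pow (Red.Ga S) (m + p) :=
      mkPt (Fin.append (coord (fst _ _)) (coord (snd _ _ ≫ ψ₂.inv)))
    let g : _root_.RedSub.pow (Red.Ga S) (m + p) ⟶ _root_.RedSub.pow (Red.Ga S) m ⊗ U₂ :=
      lift (mkPt fun k => coord (𝟙 _) (Fin.castAdd p k)) (mkPt (fun k => coord (𝟙 _) (Fin.natAdd m k)) ≫ ψ₂.hom)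
    have h1 : g ≫ g' = 𝟙 _ := by
      apply H633.PowPts.hom_ext
      intro k
      rw [comp_mkPt, coord_mkPt]
      refine Fin.addCases (fun k => ?_) (fun k => ?_) k
      · rw [Fin.append_left, ← comp_coord, lift_fst, coord_mkPt]
      · rw [Fin.append_right, ← comp_coord, lift_snd_assoc, Category.assoc, Iso.hom_inv_id, Category.comp_id,
          coord_mkPt]
    have h2 : g' ≫ g = 𝟙 _ := by
      apply CartesianMonoidalCategory.hom_ext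
      · rw [Category.assoc, lift_fst, Category.id_comp]
        apply H633.PowPts.hom_ext
        intro k
        rw [comp_mkPt, coord_mkPt, ← comp_coord, Category.comp_id, coord_mkPt, Fin.append_left]
      · rw [Category.assoc, lift_snd, Category.id_comp, ← Category.assoc, ← Iso.eq_comp_inv]
        apply H633.PowPts.hom_ext
        intro k
        rw [comp_mkPt, coord_mkPt, ← comp_coord, Category.comp_id, coord_mkPt, Fin.append_right]
    refine ⟨⟨g', g, h2, h1⟩ ≪≫ ψ₁, ?_⟩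
    rw [Iso.trans_hom, Category.assoc, hψ₁, K195.PartCell.append_comp D.u]
    change g' ≫ _ = _
    rw [mkPt_comp_prodMap]
    have h3 : (fun k => Fin.append (coord (fst (_root_.RedSub.pow (Red.Ga S) m) U₂))
        (coord (snd (_root_.RedSub.pow (Red.Ga S) m) U₂ ≫ ψ₂.inv)) k ≫
          Fin.append (fun k => D.u (e k)) (fun k => D.u (e' k)) k) =
        Fin.append (fun k => coord (fst (_root_.RedSub.pow (Red.Ga S) m) U₂) k ≫ D.u (e k))
          (fun k => coord (snd (_root_.RedSub.pow (Red.Ga S) m) U₂ ≫ ψ₂.inv) k ≫ D.u (e' k)) := by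
      funext k
      refine Fin.addCases (fun k => ?_) (fun k => ?_) k
      · rw [Fin.append_left, Fin.append_left, Fin.append_left]
      · rw [Fin.append_right, Fin.append_right, Fin.append_right]
    rw [h3, List.ofFn_fin_append, List.prod_append, ← comp_prodMap, ← comp_prodMap, Category.assoc, ← hψ₂,
      Iso.inv_hom_id_assoc]

end K979.ClosedSet
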