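import Groth.Agent.RedSub.K979.OrdProd
import Groth.Agent.RedSub.K195.PartBorel
import Groth.Agent.RedSub.H636.ClosedRoots
import Groth.Agent.RedSub.H633.PosRoots
import Groth.Agent.RedSub.H637.PosRoots
import Groth.Agent.S5521
import Groth.Agent.S5522
import Groth.Agent.Sga3B.CentNorm900
import Groth.Agent.Sga3B.BorRP478
import Groth.Agent.Sga3B.Parab.DynGeom678
import Groth.Agent.Sga3B.Parab.DynExist998
import Groth.Agent.Sga3B.RG.BrRed2
import Groth.Agent.Sga3B.InfConjFam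

/-!
# The group directly spanned by the root groups of a closed set of roots

`D` a splitting of `G` over any base `S`, `Ψ` a closed set of roots contained in a system of positive roots.

* `gen D Ψ X`: the subgroup of `G(X)` generated by the `U_a(X)`, `a ∈ Ψ`;
* `comm_mem_gen`: commutators;
* `exists_lift_iff`: the `X`-points of the ordered product map are the elements of `gen D Ψ X`, for any order.
-/

set_option autoImplicit false
universe u

open CategoryTheory MonoidalCategory CartesianMonoidalCategory MonObj GrpObj AlgebraicGeometry Limits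

namespace K979.ClosedSet

open Groth.Agent Groth.Agent.RedSub.H633.PowPts Groth.Agent.RedSub

variable {S : Scheme.{u}} {G : Over S} [GrpObj G] (D : Red.SplitRed G)

/-- The points of a root group. -/
def ug (X : Over S) (a : D.idx) : Subgroup (X ⟶ G) where
  carrier := {g | ∃ x : X ⟶ Red.Ga S, x ≫ D.u a = g}
  mul_mem' := by
    have := (D.rootHom a).1
    rintro _ _ ⟨x, rfl⟩ ⟨y, rfl⟩
    exact ⟨x * y, MonObj.mul_comp _ _ _⟩
  one_mem' := by
    have := (D.rootHom a).1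
    exact ⟨1, MonObj.one_comp _⟩
  inv_mem' := by
    have := (D.rootHom a).1
    rintro _ ⟨x, rfl⟩
    exact ⟨x⁻¹, GrpObj.inv_comp _ _⟩

lemma mem_ug {X : Over S} {a : D.idx} {g : X ⟶ G} : g ∈ ug D X a ↔ ∃ x : X ⟶ Red.Ga S, x ≫ D.u a = g :=
  Iff.rfl

/-- The group generated by the points of the root groups of roots in `Ψ`. -/
noncomputable def gen (Ψ : Set D.idx) (X : Over S) : Subgroup (X ⟶ G) :=
  Subgroup.closure {x | ∃ c ∈ Ψ, x ∈ ug D X c}

variable {D}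

lemma mem_gen {Ψ : Set D.idx} {X : Over S} {c : D.idx} (hc : c ∈ Ψ) (x : X ⟶ Red.Ga S) : x ≫ D.u c ∈ gen D Ψ X :=
  Subgroup.subset_closure ⟨c, hc, (mem_ug D).2 ⟨x, rfl⟩⟩

lemma gen_mono {Ψ Ψ' : Set D.idx} (h : Ψ ⊆ Ψ') (X : Over S) : gen D Ψ X ≤ gen D Ψ' X :=
  Subgroup.closure_mono fun _ ⟨c, hc, hx⟩ => ⟨c, h hc, hx⟩

/-- Points can be restricted. -/
lemma comp_mem_gen {Ψ : Set D.idx} {X X' : Over S} (f : X' ⟶ X) {g : X ⟶ G} (hg : g ∈ gen D Ψ X) :
    f ≫ g ∈ gen D Ψ X' := by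
  let φ : (X ⟶ G) →* (X' ⟶ G) :=
    { toFun := fun g => f ≫ g
      map_one' := MonObj.comp_one _
      map_mul' := fun a b => MonObj.comp_mul _ _ _ }
  have h : gen D Ψ X ≤ (gen D Ψ X').comap φ := by
    rw [gen, Subgroup.closure_le]
    rintro _ ⟨c, hc, hx⟩
    obtain ⟨x, rfl⟩ := (mem_ug D).1 hx
    change f ≫ x ≫ D.u c ∈ gen D Ψ X'
    rw [← Category.assoc]
    exact mem_gen hc _
  exact h hg

/-- The roots `i α + j β`, `i, j ≥ 1`. -/
def combs (D : Red.SplitRed G) (α β : D.idx) : Set D.idx :=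
  {c | ∃ p q : ℕ, 1 ≤ p ∧ 1 ≤ q ∧ D.P.root c = (p : ℤ) • D.P.root α + (q : ℤ) • D.P.root β}

lemma combs_subset {Ψ : Set D.idx}
    (hcl : ∀ a b c : D.idx, a ∈ Ψ → b ∈ Ψ → D.P.root a + D.P.root b = D.P.root c → c ∈ Ψ) {α β : D.idx}
    (hα : α ∈ Ψ) (hβ : β ∈ Ψ) : combs D α β ⊆ Ψ := by
  rintro c ⟨p, q, hp, hq, h⟩
  rw [← H636.ClosedRoots.root_mem_closure_iff D.P Ψ hcl, h, natCast_zsmul, natCast_zsmul]
  exact add_mem (nsmul_mem (AddSubmonoid.subset_closure (Set.mem_image_of_mem _ hα)) p)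
    (nsmul_mem (AddSubmonoid.subset_closure (Set.mem_image_of_mem _ hβ)) q)

/-- **Commutators of points of positive root groups.** -/
theorem conj_mem_gen (b : D.P.Base) {α β : D.idx} (hα : α ∈ _root_.RedSub.posRoots D.P b)
    (hβ : β ∈ _root_.RedSub.posRoots D.P b) {X : Over S} (x y : X ⟶ Red.Ga S) :
    (y ≫ D.u β)⁻¹ * ((x ≫ D.u α) * (y ≫ D.u β) * (x ≫ D.u α)⁻¹) ∈ gen D (combs D α β) X := by
  obtain ⟨n, e, he⟩ := H637.PosRoots.exists_enumerates (combs D α β)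
  have h1 : ∀ k, ∃ p q : ℕ, 1 ≤ p ∧ 1 ≤ q ∧ D.P.root (e k) = (p : ℤ) • D.P.root α + (q : ℤ) • D.P.root β := by
    intro k
    have : e k ∈ combs D α β := he.2 ▸ ⟨k, rfl⟩
    exact this
  choose i j hi hj hij using h1
  obtain ⟨C, hC, -⟩ := S5521.result D b α β hα hβ e i j he.1 (fun k => ⟨hi k, hj k, hij k⟩)
    (fun c p q hp hq h => by rw [he.2]; exact ⟨p, q, hp, hq, h⟩)
  rw [hC X x y (fun k => Sga3B.GaPts.gaPt X (X.hom.appTop (C k) * Red.gaFn x ^ (i k) * Red.gaFn y ^ (j k)))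
    (fun k => Sga3B.GaPts.gaFn_gaPt _ _), inv_mul_cancel_left]
  refine list_prod_mem fun w hw => ?_
  rw [List.mem_ofFn] at hw
  obtain ⟨k, rfl⟩ := hw
  exact mem_gen (he.2 ▸ ⟨k, rfl⟩) _

/-- **The points of the ordered product maps.** -/
theorem exists_lift_iff (b : D.P.Base) {Ψ : Set D.idx} (hb : Ψ ⊆ _root_.RedSub.posRoots D.P b)
    (hcl : ∀ a b c : D.idx, a ∈ Ψ → b ∈ Ψ → D.P.root a + D.P.root b = D.P.root c → c ∈ Ψ)
    {m : ℕ} {e : Fin m → D.idx} (he : Set.range e = Ψ) {X : Over S} (g : X ⟶ G) :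
    (∃ y : X ⟶ _root_.RedSub.pow (Red.Ga S) m, y ≫ _root_.RedSub.prodMap (Red.Ga S) m (fun k => D.u (e k)) = g) ↔
      g ∈ gen D Ψ X := by
  constructor
  · rintro ⟨y, rfl⟩
    rw [comp_prodMap]
    refine list_prod_mem fun w hw => ?_
    rw [List.mem_ofFn] at hw
    obtain ⟨k, rfl⟩ := hw
    exact mem_gen (he ▸ ⟨k, rfl⟩) _
  · intro hg
    obtain ⟨lam, -, hlam, -⟩ := H633.PosRoots.exists_lam b
    let ht : D.idx → ℕ := fun a => (lam (D.P.root a)).toNat
    have hpos : ∀ a ∈ Ψ, 0 < lam (D.P.root a) := fun a ha => (hlam a).1 (hb ha)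
    have hcomm : ∀ a ∈ Ψ, ∀ b ∈ Ψ, ∀ x ∈ ug D X a, ∀ y ∈ ug D X b,
        y⁻¹ * (x * y * x⁻¹) ∈ OrdProd.Fil Ψ (ug D X) ht (ht a + ht b) := by
      rintro α hα β hβ _ hx _ hy
      obtain ⟨x, rfl⟩ := (mem_ug D).1 hx
      obtain ⟨y, rfl⟩ := (mem_ug D).1 hy
      have h1 := conj_mem_gen b (hb hα) (hb hβ) x y
      refine Subgroup.closure_mono ?_ h1
      rintro w ⟨c, hc, hw⟩
      refine ⟨c, combs_subset hcl hα hβ hc, ?_, hw⟩
      obtain ⟨p, q, hp, hq, hpq⟩ := hc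
      have h2 := hpos _ hα
      have h3 := hpos _ hβ
      have h4 : lam (D.P.root c) = p * lam (D.P.root α) + q * lam (D.P.root β) := by
        rw [hpq, map_add, map_zsmul, map_zsmul, smul_eq_mul, smul_eq_mul]
      have h5 : lam (D.P.root α) + lam (D.P.root β) ≤ lam (D.P.root c) := by
        rw [h4]
        have hp' : (1 : ℤ) ≤ p := by exact_mod_cast hp
        have hq' : (1 : ℤ) ≤ q := by exact_mod_cast hq
        nlinarith
      change (lam (D.P.root α)).toNat + (lam (D.P.root β)).toNat ≤ (lam (D.P.root c)).toNat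
      omega
    obtain ⟨y, hy, h⟩ := OrdProd.exists_prod (U := ug D X) hcomm he (fun a ha => by
      have := hpos a ha
      change 1 ≤ (lam (D.P.root a)).toNat
      omega) (x := g) (by
      refine Subgroup.closure_mono ?_ hg
      rintro w ⟨c, hc, hw⟩
      refine ⟨c, hc, ?_, hw⟩
      have := hpos c hc
      change 1 ≤ (lam (D.P.root c)).toNat
      omega)
    choose z hz using fun k => (mem_ug D).1 (hy k)
    refine ⟨mkPt z, ?_⟩
    rw [mkPt_comp_prodMap, ← h]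
    congr 2
    funext k
    exact hz k

/-- **The group directly spanned by the root groups of a closed set of positive roots.** -/
theorem exists_grp (b : D.P.Base) {Ψ : Set D.idx} (hb : Ψ ⊆ _root_.RedSub.posRoots D.P b)
    (hcl : ∀ a b c : D.idx, a ∈ Ψ → b ∈ Ψ → D.P.root a + D.P.root b = D.P.root c → c ∈ Ψ) :
    ∃ (U : Over S) (_ : GrpObj U) (v : U ⟶ G), IsMonHom v ∧ IsClosedImmersion v.left ∧
      (∀ (X : Over S) (g : X ⟶ G), (∃ y : X ⟶ U, y ≫ v = g) ↔ g ∈ gen D Ψ X) ∧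
      ∀ {m : ℕ} (e : Fin m → D.idx), _root_.RedSub.Enumerates Ψ e →
        ∃ ψ : _root_.RedSub.pow (Red.Ga S) m ≅ U,
          ψ.hom ≫ v = _root_.RedSub.prodMap (Red.Ga S) m (fun k => D.u (e k)) := by
  obtain ⟨m₀, e₀, he₀⟩ := H637.PosRoots.exists_enumerates Ψ
  obtain ⟨U, v, hv, hUv⟩ : ∃ (U : Over S) (v : U ⟶ G), IsClosedImmersion v.left ∧
      ∀ (X : Over S) (g : X ⟶ G), (∃ y : X ⟶ U, y ≫ v = g) ↔ g ∈ gen D Ψ X :=
    ⟨_, _, K195.PartBorel.isClosedImmersion_prodMap D b e₀ he₀.1 (fun k => hb (he₀.2 ▸ ⟨k, rfl⟩)),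
      fun X g => exists_lift_iff b hb hcl he₀.2 g⟩
  have hm : Mono v.left := inferInstance
  have hm' : Mono v := (Over.forget S).mono_of_mono_map hm
  obtain ⟨gU, hmon⟩ := Sga3B.CentNorm900.exists_grpObj v (fun X g => g ∈ gen D Ψ X) hUv
    (fun X g h hg hh => mul_mem hg hh) (fun X => one_mem _) (fun X g hg => inv_mem hg)
  refine ⟨U, gU, v, hmon, hv, hUv, fun {m} e he => ?_⟩
  have h1 : IsClosedImmersion (_root_.RedSub.prodMap (Red.Ga S) m (fun k => D.u (e k))).left :=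
    K195.PartBorel.isClosedImmersion_prodMap D b e he.1 (fun k => hb (he.2 ▸ ⟨k, rfl⟩))
  have h2 : Mono (_root_.RedSub.prodMap (Red.Ga S) m (fun k => D.u (e k))).left := inferInstance
  have h3 : Mono (_root_.RedSub.prodMap (Red.Ga S) m (fun k => D.u (e k))) := (Over.forget S).mono_of_mono_map h2
  obtain ⟨f, hf⟩ := (hUv _ (_root_.RedSub.prodMap (Red.Ga S) m (fun k => D.u (e k)))).2
    ((exists_lift_iff b hb hcl he.2 _).1 ⟨𝟙 _, Category.id_comp _⟩)
  obtain ⟨g, hg⟩ := (exists_lift_iff b hb hcl he.2 v).2 ((hUv _ v).1 ⟨𝟙 _, Category.id_comp _⟩)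
  refine ⟨⟨f, g, ?_, ?_⟩, hf⟩
  · rw [← cancel_mono (_root_.RedSub.prodMap (Red.Ga S) m (fun k => D.u (e k))), Category.assoc, hg, hf,
      Category.id_comp]
  · rw [← cancel_mono v, Category.assoc, hf, hg, Category.id_comp]

/-- The torus normalizes the span. -/
theorem conj_torus_mem {Ψ : Set D.idx} {X : Over S} (t : X ⟶ D.T) {g : X ⟶ G} (hg : g ∈ gen D Ψ X) :
    (t ≫ D.i) * g * (t ≫ D.i)⁻¹ ∈ gen D Ψ X := by
  have h : gen D Ψ X ≤ (gen D Ψ X).comap (MulAut.conj (t ≫ D.i)).toMonoidHom := by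
    rw [gen, Subgroup.closure_le]
    rintro _ ⟨c, hc, hx⟩
    obtain ⟨x, rfl⟩ := (mem_ug D).1 hx
    obtain ⟨y, hy, -⟩ := (D.rootHom c).2.2 X t x
    change (t ≫ D.i) * (x ≫ D.u c) * (t ≫ D.i)⁻¹ ∈ gen D Ψ X
    rw [← hy]
    exact mem_gen hc y
  exact h hg

open Sga3B.Parab Sga3B.BorRP478 in
/-- The span is contained in `U_G(mu)`. -/
theorem ptU_of_mem_gen {mu : D.M →+ ℤ} {Ψ : Set D.idx} (hmu : ∀ a ∈ Ψ, 0 < mu (D.P.root a)) {X : Over S} {g : X ⟶ G}
    (hg : g ∈ gen D Ψ X) : PtU (coch D mu) g := by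
  have hc : IsMonHom (coch D mu) := inferInstance
  induction hg using Subgroup.closure_induction with
  | mem g hg =>
    obtain ⟨c, hc, hx⟩ := hg
    obtain ⟨x, rfl⟩ := (mem_ug D).1 hx
    exact ptU_u D mu x c (hmu c hc)
  | one => exact fun C _ c x => by rw [MonObj.comp_one]; exact Dyn998.limOne_one _
  | mul g h _ _ hg hh => exact fun C _ c x => by rw [MonObj.comp_mul]; exact (hg C c x).mul (hh C c x)
  | inv g _ hg => exact fun C _ c x => by rw [GrpObj.comp_inv]; exact (hg C c x).inv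

end K979.ClosedSet
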