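import Mathlib.AlgebraicGeometry.Limits
import Mathlib.CategoryTheory.Comma.Over.Basic

/-!
# Schemes over the empty scheme

Over an empty base all objects are isomorphic and all hom sets have one element.
-/

set_option autoImplicit false
universe u

open CategoryTheory AlgebraicGeometry Limits

namespace K979.EmptyBase

variable {S : Scheme.{u}} [IsEmpty S] (X Y : Over S)

lemma isEmpty_left : IsEmpty X.left := ⟨fun x => IsEmpty.false (X.hom.base x)⟩

lemma subsingleton_hom : Subsingleton (X ⟶ Y) :=
  have := isEmpty_left X
  ⟨fun _ _ => Over.OverMorphism.ext (isInitialOfIsEmpty.hom_ext _ _)⟩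

noncomputable def hom : X ⟶ Y :=
  have := isEmpty_left X
  Over.homMk (isInitialOfIsEmpty.to Y.left) (isInitialOfIsEmpty.hom_ext _ _)

noncomputable def iso : X ≅ Y where
  hom := hom X Y
  inv := hom Y X
  hom_inv_id := (subsingleton_hom X X).elim _ _
  inv_hom_id := (subsingleton_hom Y Y).elim _ _

variable {X Y} in
lemma isIso_hom (f : X ⟶ Y) : IsIso f :=
  ⟨hom Y X, (subsingleton_hom X X).elim _ _, (subsingleton_hom Y Y).elim _ _⟩

end K979.EmptyBase
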