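import Mathlib.Algebra.Group.Subgroup.Pointwise
import Mathlib.Algebra.Group.Submonoid.BigOperators
import Mathlib.Data.List.OfFn
import Mathlib.Algebra.BigOperators.Fin
import Mathlib.Algebra.Order.BigOperators.Group.Finset
import Mathlib.Tactic.Group

/-!
# Ordered products in groups with a graded family of subgroups

`Γ` a group, `U a` (`a : I`) subgroups, `Ψ` a set of indices, `ht : I → ℕ` a height with
`y⁻¹ x y x⁻¹ ∈ ⟨U c : c ∈ Ψ, ht a + ht b ≤ ht c⟩` for `x ∈ U a`, `y ∈ U b`, `a, b ∈ Ψ`.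

* `Fil`: the subgroup generated by the `U c`, `c ∈ Ψ`, `n ≤ ht c`;
* `conj_mem_Fil`: `Fil n` is normalized by `Fil 1`; `comm_mem`: commutators;
* `exists_prod`: every element of `Fil 1` is an ordered product, for any enumeration of `Ψ`.
-/

set_option autoImplicit false

namespace K979.OrdProd

variable {Γ I : Type*} [Group Γ] (Ψ : Set I) (U : I → Subgroup Γ) (ht : I → ℕ)

/-- The subgroup generated by the `U c` with `c ∈ Ψ` of height at least `n`. -/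
def Fil (n : ℕ) : Subgroup Γ := Subgroup.closure {x | ∃ c ∈ Ψ, n ≤ ht c ∧ x ∈ U c}

variable {Ψ U ht}

lemma mem_Fil {n : ℕ} {c : I} (hc : c ∈ Ψ) (hn : n ≤ ht c) {x : Γ} (hx : x ∈ U c) : x ∈ Fil Ψ U ht n :=
  Subgroup.subset_closure ⟨c, hc, hn, hx⟩

lemma Fil_mono {n n' : ℕ} (h : n ≤ n') : Fil Ψ U ht n' ≤ Fil Ψ U ht n :=
  Subgroup.closure_mono fun _ ⟨c, hc, hn, hx⟩ => ⟨c, hc, h.trans hn, hx⟩

/-- Induction over generators (the generating set is symmetric). -/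
lemma Fil_induction {n : ℕ} {P : Γ → Prop} (h0 : P 1)
    (h1 : ∀ c ∈ Ψ, n ≤ ht c → ∀ x ∈ U c, P x) (h2 : ∀ x y, x ∈ Fil Ψ U ht n → y ∈ Fil Ψ U ht n → P x → P y → P (x * y))
    {x : Γ} (hx : x ∈ Fil Ψ U ht n) : P x := by
  have key : ∀ x ∈ Submonoid.closure {x : Γ | ∃ c ∈ Ψ, n ≤ ht c ∧ x ∈ U c}, P x ∧ x ∈ Fil Ψ U ht n := by
    intro x hx
    induction hx using Submonoid.closure_induction with
    | mem x hx =>
      obtain ⟨c, hc, hn, hx⟩ := hx
      exact ⟨h1 c hc hn x hx, mem_Fil hc hn hx⟩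
    | one => exact ⟨h0, one_mem _⟩
    | mul x y _ _ hx hy => exact ⟨h2 x y hx.2 hy.2 hx.1 hy.1, mul_mem hx.2 hy.2⟩
  refine (key x ?_).1
  have h3 : x ∈ (Fil Ψ U ht n).toSubmonoid := hx
  rw [Fil, Subgroup.closure_toSubmonoid] at h3
  refine Submonoid.closure_mono ?_ h3
  rintro y (hy | ⟨c, hc, hn, hy⟩)
  · exact hy
  · exact ⟨c, hc, hn, by simpa using inv_mem hy⟩

variable (hcomm : ∀ a ∈ Ψ, ∀ b ∈ Ψ, ∀ x ∈ U a, ∀ y ∈ U b, y⁻¹ * (x * y * x⁻¹) ∈ Fil Ψ U ht (ht a + ht b))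

include hcomm

/-- The filtration is normalized by everything. -/
lemma conj_mem_Fil {m n : ℕ} {g x : Γ} (hg : g ∈ Fil Ψ U ht m) (hx : x ∈ Fil Ψ U ht n) :
    g * x * g⁻¹ ∈ Fil Ψ U ht n := by
  revert x
  refine Fil_induction (P := fun g => ∀ {x : Γ}, x ∈ Fil Ψ U ht n → g * x * g⁻¹ ∈ Fil Ψ U ht n) ?_ ?_ ?_ hg
  · intro x hx
    simpa using hx
  · intro a ha _ g hg x hx
    refine Fil_induction (P := fun x => g * x * g⁻¹ ∈ Fil Ψ U ht n) ?_ ?_ ?_ hx
    · simp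
    · intro b hb hn y hy
      have h1 := Fil_mono (by omega : n ≤ ht a + ht b) (hcomm a ha b hb g hg y hy)
      have h2 := mul_mem (mem_Fil hb hn hy) h1
      rwa [mul_inv_cancel_left] at h2
    · intro x y _ _ hx hy
      have h1 := mul_mem hx hy
      have h2 : g * x * g⁻¹ * (g * y * g⁻¹) = g * (x * y) * g⁻¹ := by group
      rwa [h2] at h1
  · intro g g' _ _ hg hg' x hx
    have h1 := hg (hg' hx)
    have h2 : g * (g' * x * g'⁻¹) * g⁻¹ = g * g' * x * (g * g')⁻¹ := by group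
    rwa [h2] at h1

/-- Commutators raise the filtration. -/
lemma comm_mem {p q : ℕ} {g x : Γ} (hg : g ∈ Fil Ψ U ht p) (hx : x ∈ Fil Ψ U ht q) :
    x⁻¹ * (g * x * g⁻¹) ∈ Fil Ψ U ht (p + q) := by
  revert x
  refine Fil_induction (P := fun g => ∀ {x : Γ}, x ∈ Fil Ψ U ht q → x⁻¹ * (g * x * g⁻¹) ∈ Fil Ψ U ht (p + q))
    ?_ ?_ ?_ hg
  · intro x hx
    simp
  · intro a ha hpa g hg x hx
    refine Fil_induction (P := fun x => x⁻¹ * (g * x * g⁻¹) ∈ Fil Ψ U ht (p + q)) ?_ ?_ ?_ hx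
    · simp
    · intro b hb hn y hy
      exact Fil_mono (by omega) (hcomm a ha b hb g hg y hy)
    · intro x y hx' hy' hx hy
      have h1 := mul_mem (conj_mem_Fil hcomm (inv_mem hy') hx) hy
      have h2 : y⁻¹ * (x⁻¹ * (g * x * g⁻¹)) * y⁻¹⁻¹ * (y⁻¹ * (g * y * g⁻¹)) = (x * y)⁻¹ * (g * (x * y) * g⁻¹) := by
        group
      rwa [h2] at h1
  · intro g g' hg1 hg2 hg hg' x hx
    have h1 := mul_mem (hg hx) (conj_mem_Fil hcomm hg1 (hg' hx))
    have h2 : x⁻¹ * (g * x * g⁻¹) * (g * (x⁻¹ * (g' * x * g'⁻¹)) * g⁻¹) = x⁻¹ * (g * g' * x * (g * g')⁻¹) := by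
      group
    rwa [h2] at h1

lemma prod_update {m : ℕ} (y : Fin m → Γ) (k : Fin m) (x : Γ) (hx : ∀ k, y k ∈ Fil Ψ U ht 1) {n : ℕ}
    (hn : x ∈ Fil Ψ U ht n) :
    ∃ z ∈ Fil Ψ U ht (n + 1), (List.ofFn y).prod * x = (List.ofFn (Function.update y k (y k * x))).prod * z := by
  induction m with
  | zero => exact k.elim0
  | succ m ih =>
    induction k using Fin.cases with
    | zero =>
      have h1 : (List.ofFn (Function.update y 0 (y 0 * x))).prod = y 0 * x * (List.ofFn fun i => y (Fin.succ i)).prod := by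
        rw [List.ofFn_succ, List.prod_cons, Function.update_self]
        congr 3
      have h2 : (List.ofFn fun i => y (Fin.succ i)).prod ∈ Fil Ψ U ht 1 := by
        refine list_prod_mem fun w hw => ?_
        rw [List.mem_ofFn] at hw
        obtain ⟨i, rfl⟩ := hw
        exact hx _
      set t := (List.ofFn fun i => y (Fin.succ i)).prod with ht'
      have h3 := comm_mem hcomm (inv_mem h2) hn
      rw [inv_inv] at h3
      rw [add_comm] at h3
      refine ⟨(x⁻¹ * (t⁻¹ * x * t))⁻¹, inv_mem h3, ?_⟩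
      rw [h1, List.ofFn_succ, List.prod_cons, ← ht']
      group
    | succ k =>
      obtain ⟨z, hz, h⟩ := ih (fun i => y i.succ) k fun k => hx _
      refine ⟨z, hz, ?_⟩
      rw [List.ofFn_succ, List.ofFn_succ, List.prod_cons, List.prod_cons, mul_assoc, h, mul_assoc,
        Function.update_of_ne (Fin.succ_ne_zero k).symm]
      congr 4
      funext i
      by_cases hi : i = k
      · subst hi; simp
      · rw [Function.update_of_ne hi, Function.update_of_ne (fun h => hi (Fin.succ_injective _ h))]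

/-- One step: an element of `Fil n` can be absorbed modulo `Fil (n + 1)`. -/
lemma absorb {m : ℕ} {e : Fin m → I} (he : Set.range e = Ψ) (hpos : ∀ a ∈ Ψ, 1 ≤ ht a) {n : ℕ} {x : Γ}
    (hx : x ∈ Fil Ψ U ht n) (y : Fin m → Γ) (hy : ∀ k, y k ∈ U (e k)) :
    ∃ y' : Fin m → Γ, (∀ k, y' k ∈ U (e k)) ∧ ∃ z ∈ Fil Ψ U ht (n + 1),
      (List.ofFn y).prod * x = (List.ofFn y').prod * z := by
  revert y
  refine Fil_induction (P := fun x => ∀ y : Fin m → Γ, (∀ k, y k ∈ U (e k)) → ∃ y' : Fin m → Γ, (∀ k, y' k ∈ U (e k)) ∧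
    ∃ z ∈ Fil Ψ U ht (n + 1), (List.ofFn y).prod * x = (List.ofFn y').prod * z) ?_ ?_ ?_ hx
  · intro y hy
    exact ⟨y, hy, 1, one_mem _, rfl⟩
  · intro c hc hn x hx y hy
    rcases Nat.lt_or_ge n (ht c) with h | h
    · exact ⟨y, hy, x, mem_Fil hc h hx, rfl⟩
    · obtain ⟨k, rfl⟩ : ∃ k, e k = c := by
        rw [← he] at hc
        exact hc
      have hy1 : ∀ k, y k ∈ Fil Ψ U ht 1 := fun k => mem_Fil (he ▸ ⟨k, rfl⟩) (hpos _ (he ▸ ⟨k, rfl⟩)) (hy k)
      obtain ⟨z, hz, h⟩ := prod_update hcomm y k x hy1 (mem_Fil hc hn hx)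
      refine ⟨Function.update y k (y k * x), fun j => ?_, z, hz, h⟩
      by_cases hj : j = k
      · subst hj
        rw [Function.update_self]
        exact mul_mem (hy _) hx
      · rw [Function.update_of_ne hj]
        exact hy _
  · intro x x' hx hx' h h' y hy
    obtain ⟨y₁, hy₁, z₁, hz₁, e₁⟩ := h y hy
    obtain ⟨y₂, hy₂, z₂, hz₂, e₂⟩ := h' y₁ hy₁
    have h1 := conj_mem_Fil hcomm (inv_mem hx') hz₁
    rw [inv_inv] at h1
    refine ⟨y₂, hy₂, z₂ * (x'⁻¹ * z₁ * x'), mul_mem hz₂ h1, ?_⟩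
    rw [← mul_assoc, e₁, ← mul_assoc, ← e₂]
    group

/-- **Ordered products in any order.** -/
theorem exists_prod {m : ℕ} {e : Fin m → I} (he : Set.range e = Ψ) (hpos : ∀ a ∈ Ψ, 1 ≤ ht a) {x : Γ}
    (hx : x ∈ Fil Ψ U ht 1) : ∃ y : Fin m → Γ, (∀ k, y k ∈ U (e k)) ∧ (List.ofFn y).prod = x := by
  have key : ∀ n : ℕ, ∃ y : Fin m → Γ, (∀ k, y k ∈ U (e k)) ∧ ∃ z ∈ Fil Ψ U ht (n + 1), x = (List.ofFn y).prod * z := by
    intro n
    induction n with
    | zero =>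
      refine ⟨fun _ => 1, fun _ => one_mem _, x, hx, ?_⟩
      simp
    | succ n ih =>
      obtain ⟨y, hy, z, hz, h⟩ := ih
      obtain ⟨y', hy', z', hz', h'⟩ := absorb hcomm he hpos hz y hy
      exact ⟨y', hy', z', hz', h.trans h'⟩
  obtain ⟨y, hy, z, hz, h⟩ := key (∑ k, ht (e k))
  refine ⟨y, hy, ?_⟩
  have h1 : Fil Ψ U ht (∑ k, ht (e k) + 1) = ⊥ := by
    rw [Fil, Subgroup.closure_eq_bot_iff]
    rintro w ⟨c, hc, hn, -⟩
    exfalso
    rw [← he] at hc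
    obtain ⟨k, rfl⟩ := hc
    have := Finset.single_le_sum (f := fun k => ht (e k)) (fun _ _ => Nat.zero_le _) (Finset.mem_univ k)
    have h2 : ht (e k) ≤ ∑ k, ht (e k) := this
    omega
  rw [h1, Subgroup.mem_bot] at hz
  rw [h, hz, mul_one]

end K979.OrdProd
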